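import Groth.Agent.TorFib.Basic

/-!
# The fibres where a module is torsion or torsion-free
-/

set_option autoImplicit false
set_option linter.style.haveILetI false
set_option backward.isDefEq.respectTransparency false

universe u

open CategoryTheory AlgebraicGeometry TopologicalSpace Topology

namespace Groth.Agent.TorFib

open Groth.Agent.FibDepth

variable {X S : Scheme.{u}} (f : X ⟶ S) [LocallyOfFinitePresentation f] (F : X.Modules) (hF : CohB1.IsFP F)
  (hd : ∀ (s : S) (z : ↥(f.fiber s)), IsDomain ((f.fiber s).presheaf.stalk z))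

include hd in
theorem mem_ass_unit_iff (s : S) (z : ↥(f.fiber s)) :
    z ∈ AssSch.Ass ((Scheme.Modules.pullback (f.fiberι s)).obj (Coh.structureModule X)) ↔ IsMaxPt z := by
  haveI := isLocallyNoetherian_fiber f s
  exact (FlatFunLib.isAssPoint_iff_of_iso (DerPerf.pullUnitIso (f.fiberι s)) z).trans (mem_ass_struct_iff (hd s) z)

theorem exists_dim (s : S) (z : ↥(f.fiber s)) :
    ∃ m : ℕ, topologicalKrullDim ↥(closure ({z} : Set ↥(f.fiber s))) = (m : WithBot ℕ∞) := by
  obtain ⟨V, W, hW, n, σ, hx, hdim, -⟩ := assCons_chart f (Coh.structureModule X) (SchDense.isFP_unit X) (f.fiberι s z)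
  obtain ⟨m, -, hm⟩ := hdim s z hx
  exact ⟨m, hm⟩

include hd in
theorem assDimAt_unit (s : S) {η z : ↥(f.fiber s)} (h : η ⤳ z) (hη : IsMaxPt η) {j : ℕ}
    (hj : topologicalKrullDim ↥(closure ({η} : Set ↥(f.fiber s))) = (j : WithBot ℕ∞)) :
    AssDimAt f (Coh.structureModule X) {j} s z := fun z' hz' hzz =>
  ⟨j, Finset.mem_singleton_self j, by rw [maxPt_unique (hd s) hzz h ((mem_ass_unit_iff f hd s z').1 hz') hη, hj]⟩

include hd in
theorem dim_of_assDimAt_unit (s : S) {η z : ↥(f.fiber s)} (h : η ⤳ z) (hη : IsMaxPt η) {j : ℕ}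
    (hj : AssDimAt f (Coh.structureModule X) {j} s z) :
    topologicalKrullDim ↥(closure ({η} : Set ↥(f.fiber s))) = (j : WithBot ℕ∞) := by
  obtain ⟨m, hm, e⟩ := hj η ((mem_ass_unit_iff f hd s η).2 hη) h
  rwa [Finset.mem_singleton.1 hm] at e

include hd in
/-- A constructible condition indexed by the dimension of the component through the point. -/
theorem isLocallyConstructible_forall {P : ℕ → ∀ s, ↥(f.fiber s) → Prop} [QuasiCompact f]
    (hP : ∀ j, IsLocallyConstructible {x : X | P j (f x) (f.asFiber x)}) :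
    IsLocallyConstructible {s : S | ∀ z j, AssDimAt f (Coh.structureModule X) {j} s z → P j s z} := by
  refine isLocallyConstructible_forall_of_fibres f (C := fun s z => ∀ j, AssDimAt f (Coh.structureModule X) {j} s z → P j s z) ?_
  choose V W hW n σ hx hdim hrest using fun x => assCons_chart f (Coh.structureModule X) (SchDense.isFP_unit X) x
  refine IsLocallyConstructible.of_isOpenCover (U := W) (IsOpenCover.mk (eq_top_iff.2 fun x _ => Opens.mem_iSup.2 ⟨x, hx x⟩)) fun x₀ => ?_
  have hA : IsLocallyConstructible {x : X | ∀ j : Fin (n x₀ + 1),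
      AssDimAt f (Coh.structureModule X) {(j : ℕ)} (f x) (f.asFiber x) → P j (f x) (f.asFiber x)} := by
    simp only [Set.ofPred_forall]
    refine IsLocallyConstructible.iInter fun j => ?_
    convert (isLocallyConstructible_compl (isLocallyConstructible_assDimAt f (Coh.structureModule X)
      (SchDense.isFP_unit X) {(j : ℕ)})).union (hP j) using 1
    ext x
    simp [imp_iff_not_or]
  have hh := hA.preimage_of_isOpenEmbedding (W x₀).2.isOpenEmbedding_subtypeVal
  refine (congrArg IsLocallyConstructible (Set.ext fun ⟨x, hxW⟩ => ?_)).mpr hh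
  refine ⟨fun h j hj => h j hj, fun h j hj => ?_⟩
  obtain ⟨η, hηz, hη⟩ := exists_maxPt (f.asFiber x)
  have hmem : f.fiberι (f x) η ∈ W x₀ := by
    refine (hηz.map (f.fiberι (f x)).continuous).mem_open (W x₀).2 ?_
    rw [f.fiberι_asFiber]; exact hxW
  obtain ⟨m, hm, e⟩ := hdim x₀ (f x) η hmem
  have e' := (dim_of_assDimAt_unit f hd (f x) hηz hη hj).symm.trans e
  obtain rfl : j = m := by exact_mod_cast e'
  exact h ⟨j, Nat.lt_succ_of_le hm⟩ hj

include hd hF in
/-- The fibres where the module is torsion. -/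
theorem isLocallyConstructible_torsion [QuasiCompact f] :
    IsLocallyConstructible {s : S | ∀ x : ↥(f.fiber s),
      Submodule.torsion ((f.fiber s).presheaf.stalk x)
        (((Scheme.Modules.pullback (f.fiberι s)).obj F).presheaf.stalk x) = ⊤} := by
  convert isLocallyConstructible_forall f hd (P := fun j s z => CompDimAt f F j s z)
    (isLocallyConstructible_compDimAt f F hF) using 1
  ext s
  haveI := isQCoh_of_isFP hF
  refine (forall_torsion_eq_top_iff (hd s) (QC.isQCoh_pullback (f.fiberι s) (isQCoh_of_isFP hF))).trans ⟨?_, ?_⟩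
  · intro h z j hj z' hz' hzz hmin hdim
    obtain ⟨η, hη', hη⟩ := exists_maxPt z'
    have he := eq_of_dim_eq hη' (dim_of_assDimAt_unit f hd s (hη'.trans hzz) hη hj) hdim
    subst he
    exact h η hη hz'
  · intro h η hη hn
    obtain ⟨j, hj⟩ := exists_dim f s η
    exact h η j (assDimAt_unit f hd s specializes_rfl hη hj) η hn specializes_rfl (fun w _ hw => hη w hw) hj

include hd hF in
/-- The fibres where the module is torsion-free. -/
theorem isLocallyConstructible_torsionFree [QuasiCompact f] :
    IsLocallyConstructible {s : S | ∀ x : ↥(f.fiber s),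
      Submodule.torsion ((f.fiber s).presheaf.stalk x)
        (((Scheme.Modules.pullback (f.fiberι s)).obj F).presheaf.stalk x) = ⊥} := by
  convert isLocallyConstructible_forall f hd (P := fun j s z => AssDimAt f F {j} s z)
    (fun j => isLocallyConstructible_assDimAt f F hF {j}) using 1
  ext s
  haveI := isQCoh_of_isFP hF
  haveI := isLocallyNoetherian_fiber f s
  refine (forall_torsion_eq_bot_iff (hd s) (QC.isQCoh_pullback (f.fiberι s) (isQCoh_of_isFP hF))).trans ⟨?_, ?_⟩
  · intro h z j hj z' hz' hzz
    exact hj z' ((mem_ass_unit_iff f hd s z').2 (h z' hz')) hzz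
  · intro h x hx
    obtain ⟨η, hη', hη⟩ := exists_maxPt x
    obtain ⟨j, hj⟩ := exists_dim f s η
    obtain ⟨m, hm, e⟩ := h x j (assDimAt_unit f hd s hη' hη hj) x hx specializes_rfl
    rw [Finset.mem_singleton.1 hm] at e
    exact eq_of_dim_eq hη' hj e ▸ hη

end Groth.Agent.TorFib
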