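import Groth.Agent.FibDepth.AssCons
import Groth.Agent.AssLib.Points
import Groth.Agent.DerPerf.Local
import Groth.Agent.SchDense.Unit
import Groth.Agent.FlatFunLib.RelAssBCIff
import Groth.Agent.Unibranch.Chains
import Mathlib.Algebra.Module.Torsion.Basic

/-!
# Torsion and torsion-freeness on locally integral fibres
-/

set_option autoImplicit false
set_option linter.style.haveILetI false
set_option backward.isDefEq.respectTransparency false

universe u

open CategoryTheory AlgebraicGeometry TopologicalSpace Topology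

namespace Groth.Agent.TorFib

open Groth.Agent.QC Groth.Agent.WeakAssLib

variable {Z : Scheme.{u}}

/-- A point without proper generisations. -/
def IsMaxPt (x : Z) : Prop := ∀ y : Z, y ⤳ x → y = x

theorem exists_maxPt (z : Z) : ∃ η : Z, η ⤳ z ∧ IsMaxPt η := by
  obtain ⟨U, hU, hz, -⟩ := exists_isAffineOpen_mem_and_subset (X := Z) (U := ⊤) (trivial : z ∈ (⊤ : Z.Opens))
  obtain ⟨q, hq, hqp⟩ := Ideal.exists_minimalPrimes_le (bot_le : ⊥ ≤ (hU.primeIdealOf ⟨z, hz⟩).asIdeal)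
  let q' : Spec Γ(Z, U) := ⟨q, hq.1.1⟩
  have hy : hU.fromSpec.base q' ∈ U := hU.range_fromSpec.subset ⟨q', rfl⟩
  have hqy : hU.primeIdealOf ⟨_, hy⟩ = q' :=
    hU.fromSpec.isOpenEmbedding.injective (hU.fromSpec_primeIdealOf ⟨_, hy⟩)
  refine ⟨hU.fromSpec.base q', ?_, (minimal_iff_maximalPt hU hy).2 (by rw [hqy]; exact hq)⟩
  have h1 := ((PrimeSpectrum.le_iff_specializes q' (hU.primeIdealOf ⟨z, hz⟩)).1 hqp).map hU.fromSpec.continuous
  have e : hU.fromSpec.base (hU.primeIdealOf ⟨z, hz⟩) = z := hU.fromSpec_primeIdealOf ⟨z, hz⟩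
  rwa [e] at h1

variable (hd : ∀ z : Z, IsDomain (Z.presheaf.stalk z))
variable {U : Z.Opens} (hU : IsAffineOpen U)

include hd in
theorem primeIdeal_minimal_of_isField {z : Z} (hz : z ∈ U)
    (h : IsField (Z.presheaf.stalk z)) : (hU.primeIdealOf ⟨z, hz⟩).asIdeal ∈ minimalPrimes Γ(Z, U) := by
  refine ⟨⟨(hU.primeIdealOf ⟨z, hz⟩).isPrime, bot_le⟩, fun q hq hle b hb => ?_⟩
  have h0 : (Z.presheaf.germ U z hz).hom b = 0 := by
    by_contra hne
    obtain ⟨c, hc⟩ := h.mul_inv_cancel hne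
    exact (mem_primeIdealOf hU hz b).1 ((Z.mem_basicOpen b z hz).2 (IsUnit.of_mul_eq_one c hc)) hb
  letI := (Z.presheaf.germ U z hz).hom.toAlgebra
  haveI : IsLocalization.AtPrime (Z.presheaf.stalk z) (hU.primeIdealOf ⟨z, hz⟩).asIdeal := hU.isLocalization_stalk ⟨z, hz⟩
  obtain ⟨d, hd'⟩ := (IsLocalization.map_eq_zero_iff (hU.primeIdealOf ⟨z, hz⟩).asIdeal.primeCompl (Z.presheaf.stalk z) b).1 h0
  exact (hq.1.mem_or_mem (show d.1 * b ∈ q by rw [hd']; exact zero_mem q)).resolve_left fun hm => d.2 (hle hm)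

theorem isField_stalk {η : Z} (hη : IsMaxPt η) [hD : IsDomain (Z.presheaf.stalk η)] : IsField (Z.presheaf.stalk η) := by
  obtain ⟨U, hU, hx, -⟩ := exists_isAffineOpen_mem_and_subset (X := Z) (U := ⊤) (trivial : η ∈ (⊤ : Z.Opens))
  let p := (hU.primeIdealOf ⟨η, hx⟩).asIdeal
  letI := (Z.presheaf.germ U η hx).hom.toAlgebra
  haveI : IsLocalization.AtPrime (Z.presheaf.stalk η) p := hU.isLocalization_stalk ⟨η, hx⟩
  rw [IsLocalRing.isField_iff_maximalIdeal_eq]
  refine le_antisymm (fun a ha => ?_) bot_le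
  have hmin := (minimal_iff_maximalPt hU hx).1 hη
  have hle : IsLocalRing.maximalIdeal (Z.presheaf.stalk η) ≤ ⊥ := by
    have h1 : ((⊥ : Ideal (Z.presheaf.stalk η)).comap (algebraMap Γ(Z, U) (Z.presheaf.stalk η))) = p := by
      refine le_antisymm ?_ ?_
      · exact (Ideal.comap_mono bot_le).trans_eq
          (IsLocalization.AtPrime.under_maximalIdeal (Z.presheaf.stalk η) p)
      · exact hmin.2 ⟨Ideal.comap_isPrime _ _, bot_le⟩ ((Ideal.comap_mono bot_le).trans_eq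
          (IsLocalization.AtPrime.under_maximalIdeal (Z.presheaf.stalk η) p))
    rw [← IsLocalization.map_under p.primeCompl (Z.presheaf.stalk η) (IsLocalRing.maximalIdeal _),
      show (IsLocalRing.maximalIdeal (Z.presheaf.stalk η)).under Γ(Z, U) = p from
        IsLocalization.AtPrime.under_maximalIdeal (Z.presheaf.stalk η) p, ← h1]
    exact Ideal.map_comap_le
  exact hle ha

include hd hU in
/-- A function with nonzero germ does not vanish at a maximal generisation. -/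
theorem germ_ne_zero {η z : Z} (hz : z ∈ U) (hηU : η ∈ U) (hη : IsMaxPt η) (hηz : η ⤳ z) {a : Γ(Z, U)}
    (ha : (Z.presheaf.germ U z hz).hom a ≠ 0) : (Z.presheaf.germ U η hηU).hom a ≠ 0 := by
  intro h
  haveI := hd z
  let q := (hU.primeIdealOf ⟨η, hηU⟩).asIdeal
  have hqp : q ≤ (hU.primeIdealOf ⟨z, hz⟩).asIdeal := by
    refine (PrimeSpectrum.le_iff_specializes (hU.primeIdealOf ⟨η, hηU⟩) (hU.primeIdealOf ⟨z, hz⟩)).2 ?_
    rw [← hU.fromSpec.isOpenEmbedding.isInducing.specializes_iff]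
    have e1 : hU.fromSpec.base (hU.primeIdealOf ⟨η, hηU⟩) = η := hU.fromSpec_primeIdealOf ⟨η, hηU⟩
    have e2 : hU.fromSpec.base (hU.primeIdealOf ⟨z, hz⟩) = z := hU.fromSpec_primeIdealOf ⟨z, hz⟩
    rwa [e1, e2]
  have hloc : ∀ {w : Z} (hw : w ∈ U) (b : Γ(Z, U)), (Z.presheaf.germ U w hw).hom b = 0 ↔
      ∃ c, c ∉ (hU.primeIdealOf ⟨w, hw⟩).asIdeal ∧ c * b = 0 := fun {w} hw b => by
    letI := (Z.presheaf.germ U w hw).hom.toAlgebra
    haveI : IsLocalization.AtPrime (Z.presheaf.stalk w) (hU.primeIdealOf ⟨w, hw⟩).asIdeal :=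
      hU.isLocalization_stalk ⟨w, hw⟩
    exact (IsLocalization.map_eq_zero_iff (hU.primeIdealOf ⟨w, hw⟩).asIdeal.primeCompl (Z.presheaf.stalk w) b).trans
      ⟨fun ⟨c, hc⟩ => ⟨c.1, c.2, hc⟩, fun ⟨c, hc, hcb⟩ => ⟨⟨c, hc⟩, hcb⟩⟩
  obtain ⟨c, hc, hca⟩ := (hloc hηU a).1 h
  have h1 : (Z.presheaf.germ U z hz).hom c * (Z.presheaf.germ U z hz).hom a = 0 := by
    rw [← map_mul, hca, map_zero]
  obtain ⟨d, hd', hdc⟩ := (hloc hz c).1 ((mul_eq_zero.1 h1).resolve_right ha)
  exact ((hU.primeIdealOf ⟨η, hηU⟩).isPrime.mem_or_mem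
    (show d * c ∈ q by rw [hdc]; exact zero_mem q)).elim (fun h' => hd' (hqp h')) hc

include hd in
theorem maxPt_unique {η η' z : Z} (h : η ⤳ z) (h' : η' ⤳ z) (hη : IsMaxPt η) (hη' : IsMaxPt η') : η = η' := by
  obtain ⟨U, hU, hz, -⟩ := exists_isAffineOpen_mem_and_subset (X := Z) (U := ⊤) (trivial : z ∈ (⊤ : Z.Opens))
  have hηU : η ∈ U := h.mem_open U.isOpen hz
  have hη'U : η' ∈ U := h'.mem_open U.isOpen hz
  have key : ∀ {a b : Z} (haU : a ∈ U) (hbU : b ∈ U), IsMaxPt a → a ⤳ z → IsMaxPt b → b ⤳ z →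
      (hU.primeIdealOf ⟨a, haU⟩).asIdeal ≤ (hU.primeIdealOf ⟨b, hbU⟩).asIdeal := by
    intro a b haU hbU ha haz hb hbz r hr
    by_contra hrb
    have hzr : (Z.presheaf.germ U z hz).hom r ≠ 0 := fun h0 => by
      letI := (Z.presheaf.germ U z hz).hom.toAlgebra
      haveI : IsLocalization.AtPrime (Z.presheaf.stalk z) (hU.primeIdealOf ⟨z, hz⟩).asIdeal :=
        hU.isLocalization_stalk ⟨z, hz⟩
      obtain ⟨d, hd'⟩ := (IsLocalization.map_eq_zero_iff (hU.primeIdealOf ⟨z, hz⟩).asIdeal.primeCompl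
        (Z.presheaf.stalk z) r).1 h0
      refine ((hU.primeIdealOf ⟨b, hbU⟩).isPrime.mem_or_mem
        (show d.1 * r ∈ _ by rw [hd']; exact zero_mem _)).elim (fun h' => d.2 ?_) hrb
      refine (PrimeSpectrum.le_iff_specializes (hU.primeIdealOf ⟨b, hbU⟩) (hU.primeIdealOf ⟨z, hz⟩)).2 ?_ h'
      rw [← hU.fromSpec.isOpenEmbedding.isInducing.specializes_iff]
      have e1 : hU.fromSpec.base (hU.primeIdealOf ⟨b, hbU⟩) = b := hU.fromSpec_primeIdealOf ⟨b, hbU⟩
      have e2 : hU.fromSpec.base (hU.primeIdealOf ⟨z, hz⟩) = z := hU.fromSpec_primeIdealOf ⟨z, hz⟩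
      rwa [e1, e2]
    have hne := germ_ne_zero hd hU hz haU ha haz hzr
    haveI := hd a
    obtain ⟨c, hc⟩ := (isField_stalk ha).mul_inv_cancel hne
    exact (mem_primeIdealOf hU haU r).1 ((Z.mem_basicOpen r a haU).2 (IsUnit.of_mul_eq_one c hc)) hr
  have he : hU.primeIdealOf ⟨η, hηU⟩ = hU.primeIdealOf ⟨η', hη'U⟩ :=
    PrimeSpectrum.ext (le_antisymm (key hηU hη'U hη h hη' h') (key hη'U hηU hη' h' hη h))
  have e1 : hU.fromSpec.base (hU.primeIdealOf ⟨η, hηU⟩) = η := hU.fromSpec_primeIdealOf ⟨η, hηU⟩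
  have e2 : hU.fromSpec.base (hU.primeIdealOf ⟨η', hη'U⟩) = η' := hU.fromSpec_primeIdealOf ⟨η', hη'U⟩
  rw [← e1, ← e2, he]

variable {M : Z.Modules}

include hd in
theorem forall_torsion_eq_top_iff (hM : Coh.IsQCoh M) :
    (∀ z : Z, Submodule.torsion (Z.presheaf.stalk z) (M.presheaf.stalk z) = ⊤) ↔
      ∀ η : Z, IsMaxPt η → ¬ Nontrivial (M.presheaf.stalk η) := by
  constructor
  · intro h η hη hn
    haveI := hd η
    obtain ⟨t, ht⟩ := exists_ne (0 : M.presheaf.stalk η)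
    obtain ⟨a, ha⟩ := (h η ▸ Submodule.mem_top : t ∈ Submodule.torsion (Z.presheaf.stalk η) _)
    obtain ⟨c, hc⟩ := (isField_stalk hη).mul_inv_cancel (nonZeroDivisors.ne_zero a.2)
    exact ht ((IsUnit.of_mul_eq_one c hc).smul_eq_zero.1 ha)
  · intro h z
    haveI := hd z
    obtain ⟨U, hU, hz, -⟩ := exists_isAffineOpen_mem_and_subset (X := Z) (U := ⊤) (trivial : z ∈ (⊤ : Z.Opens))
    have hF : IsLoc M U := isLoc_of_isQCoh hU (hM := hM)
    obtain ⟨η, hηz, hη⟩ := exists_maxPt z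
    have hηU : η ∈ U := hηz.mem_open U.isOpen hz
    haveI : Subsingleton (M.presheaf.stalk η) := not_nontrivial_iff_subsingleton.1 (h η hη)
    rw [eq_top_iff]
    rintro t -
    obtain ⟨a, s, ha, has⟩ := exists_germ hU hF hz t
    obtain ⟨c, hc, hcs⟩ := (germ_eq_zero_iff hU hF hηU s).1 (Subsingleton.elim _ _)
    have hcz : (Z.presheaf.germ U z hz).hom c ≠ 0 := by
      intro h0
      letI := (Z.presheaf.germ U z hz).hom.toAlgebra
      haveI : IsLocalization.AtPrime (Z.presheaf.stalk z) (hU.primeIdealOf ⟨z, hz⟩).asIdeal :=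
        hU.isLocalization_stalk ⟨z, hz⟩
      obtain ⟨d, hd'⟩ := (IsLocalization.map_eq_zero_iff (hU.primeIdealOf ⟨z, hz⟩).asIdeal.primeCompl
        (Z.presheaf.stalk z) c).1 h0
      refine ((hU.primeIdealOf ⟨η, hηU⟩).isPrime.mem_or_mem
        (show d.1 * c ∈ _ by rw [hd']; exact zero_mem _)).elim (fun h' => d.2 ?_) hc
      refine (PrimeSpectrum.le_iff_specializes (hU.primeIdealOf ⟨η, hηU⟩) (hU.primeIdealOf ⟨z, hz⟩)).2 ?_ h'
      rw [← hU.fromSpec.isOpenEmbedding.isInducing.specializes_iff]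
      have e1 : hU.fromSpec.base (hU.primeIdealOf ⟨η, hηU⟩) = η := hU.fromSpec_primeIdealOf ⟨η, hηU⟩
      have e2 : hU.fromSpec.base (hU.primeIdealOf ⟨z, hz⟩) = z := hU.fromSpec_primeIdealOf ⟨z, hz⟩
      rwa [e1, e2]
    refine ⟨⟨_, mem_nonZeroDivisors_of_ne_zero (mul_ne_zero hcz (isUnit_germ hU hz ha).ne_zero)⟩, ?_⟩
    show ((Z.presheaf.germ U z hz).hom c * (Z.presheaf.germ U z hz).hom a) • t = 0
    rw [mul_smul, has, ← mgerm_smul, hcs, map_zero]

include hd in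
theorem forall_torsion_eq_bot_iff [IsLocallyNoetherian Z] (hM : Coh.IsQCoh M) :
    (∀ z : Z, Submodule.torsion (Z.presheaf.stalk z) (M.presheaf.stalk z) = ⊥) ↔
      ∀ x : Z, x ∈ AssSch.Ass M → IsMaxPt x := by
  constructor
  · intro h x hx
    haveI := hd x
    obtain ⟨U, hU, hxU, -⟩ := exists_isAffineOpen_mem_and_subset (X := Z) (U := ⊤) (trivial : x ∈ (⊤ : Z.Opens))
    refine (minimal_iff_maximalPt hU hxU).2 (primeIdeal_minimal_of_isField hd hU hxU ?_)
    obtain ⟨t, ht⟩ := ((isAssPoint_iff M x).1 hx)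
    by_contra hnf
    obtain ⟨a, ha0, hau⟩ : ∃ a : Z.presheaf.stalk x, a ≠ 0 ∧ ¬ IsUnit a := by
      by_contra! hc
      exact hnf ⟨⟨0, 1, zero_ne_one⟩, mul_comm, fun {a} ha => (hc a ha).exists_right_inv⟩
    have hm : a ∈ Ideal.radical (LinearMap.toSpanSingleton (Z.presheaf.stalk x) (M.presheaf.stalk x) t).ker :=
      ht.symm ▸ (IsLocalRing.mem_maximalIdeal a).2 hau
    obtain ⟨n, hn⟩ := hm
    have ht0 : t = 0 := by
      have : t ∈ Submodule.torsion (Z.presheaf.stalk x) (M.presheaf.stalk x) :=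
        ⟨⟨a ^ n, mem_nonZeroDivisors_of_ne_zero (pow_ne_zero n ha0)⟩, hn⟩
      rwa [h x, Submodule.mem_bot] at this
    rw [ht0, LinearMap.toSpanSingleton_zero, LinearMap.ker_zero, Ideal.radical_top] at ht
    exact (IsLocalRing.maximalIdeal.isMaximal _).ne_top ht.symm
  · intro h z
    haveI := hd z
    rw [eq_bot_iff]
    rintro t ⟨a, hat⟩
    rw [Submodule.mem_bot]
    by_contra ht
    obtain ⟨U, hU, hz, -⟩ := exists_isAffineOpen_mem_and_subset (X := Z) (U := ⊤) (trivial : z ∈ (⊤ : Z.Opens))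
    have hF : IsLoc M U := isLoc_of_isQCoh hU (hM := hM)
    obtain ⟨b, s, hb, hbs⟩ := exists_germ hU hF hz t
    letI := (Z.presheaf.germ U z hz).hom.toAlgebra
    haveI : IsLocalization.AtPrime (Z.presheaf.stalk z) (hU.primeIdealOf ⟨z, hz⟩).asIdeal :=
      hU.isLocalization_stalk ⟨z, hz⟩
    obtain ⟨⟨a₁, c⟩, hac⟩ := IsLocalization.surj (hU.primeIdealOf ⟨z, hz⟩).asIdeal.primeCompl (a : Z.presheaf.stalk z)
    have ha₁ : (Z.presheaf.germ U z hz).hom a₁ ≠ 0 := fun h0 =>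
      mul_ne_zero (nonZeroDivisors.ne_zero a.2) (isUnit_germ hU hz c.2).ne_zero (hac.trans h0)
    have hs0 : mgerm M hz (a₁ • s) = 0 := by
      have e : (Z.presheaf.germ U z hz).hom a₁ = (a : Z.presheaf.stalk z) * (Z.presheaf.germ U z hz).hom c.1 := hac.symm
      rw [mgerm_smul, ← hbs, e, smul_comm, mul_comm, mul_smul,
        show (a : Z.presheaf.stalk z) • t = 0 from hat, smul_zero, smul_zero]
    obtain ⟨d, hd', hds⟩ := (germ_eq_zero_iff hU hF hz _).1 hs0
    have hne : mgerm M hz s ≠ 0 := by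
      rw [← hbs]
      exact fun h0 => ht ((isUnit_germ hU hz hb).smul_eq_zero.1 h0)
    obtain ⟨y, hy, hyz, hwa, hne'⟩ := exists_weakAss hM hz s hne
    have hymax := h y ((isAssPoint_iff M y).2 hwa)
    haveI := hd y
    have hda : (Z.presheaf.germ U z hz).hom (d * a₁) ≠ 0 := by
      rw [map_mul]
      exact mul_ne_zero (isUnit_germ hU hz hd').ne_zero ha₁
    have hu := germ_ne_zero hd hU hz hy hymax hyz hda
    obtain ⟨e, he⟩ := (isField_stalk hymax).mul_inv_cancel hu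
    refine hne' ((IsUnit.of_mul_eq_one e he).smul_eq_zero.1 ?_)
    rw [← mgerm_smul, mul_smul, hds, map_zero]

include hd in
theorem mem_ass_struct_iff [IsLocallyNoetherian Z] (x : Z) :
    x ∈ AssSch.Ass (Coh.structureModule Z) ↔ IsMaxPt x := by
  haveI := hd x
  refine (AssLib.ass_struct_iff x).trans ⟨fun hx => ?_, fun hx => ?_⟩
  · obtain ⟨U, hU, hxU, -⟩ := exists_isAffineOpen_mem_and_subset (X := Z) (U := ⊤) (trivial : x ∈ (⊤ : Z.Opens))
    refine (minimal_iff_maximalPt hU hxU).2 (primeIdeal_minimal_of_isField hd hU hxU ?_)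
    rw [IsLocalRing.isField_iff_maximalIdeal_eq]
    obtain ⟨t, ht⟩ := hx.2
    refine le_antisymm (fun a ha => ?_) bot_le
    rw [ht] at ha
    obtain ⟨n, hn⟩ := ha
    simp [Submodule.mem_colon] at hn
    refine hn.elim (fun h => h.1) fun h => absurd ht ?_
    subst h
    simp [Submodule.colon]
    exact fun e => (IsLocalRing.maximalIdeal.isMaximal _).ne_top (e.trans (Ideal.radical_top _))
  · rw [(IsLocalRing.isField_iff_maximalIdeal_eq).1 (isField_stalk hx)]
    exact ⟨Ideal.isPrime_bot, 1, by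
      ext a
      simp [Ideal.mem_radical_iff, Submodule.mem_colon]
      exact fun _ => ⟨1, one_ne_zero⟩⟩

/-- Dimensions of closures drop strictly along proper specialisations. -/
theorem eq_of_dim_eq {η z : Z} (h : η ⤳ z) {j : ℕ}
    (hη : topologicalKrullDim ↥(closure ({η} : Set Z)) = (j : WithBot ℕ∞))
    (hz : topologicalKrullDim ↥(closure ({z} : Set Z)) = (j : WithBot ℕ∞)) : η = z := by
  by_contra hne
  haveI : QuasiSober ↥(closure ({η} : Set Z)) := isClosed_closure.isClosedEmbedding_subtypeVal.quasiSober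
  haveI : QuasiSober ↥(closure ({z} : Set Z)) := isClosed_closure.isClosedEmbedding_subtypeVal.quasiSober
  obtain ⟨c, hc⟩ := Unibranch.exists_chain_of_le_topologicalKrullDim (α := ↥(closure ({z} : Set Z))) hz.ge
  have hzc : ∀ i, z ⤳ (c i).1 := fun i => specializes_iff_mem_closure.2 (c i).2
  have hsub : closure ({z} : Set Z) ⊆ closure ({η} : Set Z) :=
    closure_minimal (Set.singleton_subset_iff.2 (specializes_iff_mem_closure.1 h)) isClosed_closure
  let c' : Fin (j + 1 + 1) → ↥(closure ({η} : Set Z)) :=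
    Fin.cases ⟨η, subset_closure rfl⟩ fun i => ⟨(c i).1, hsub (c i).2⟩
  have hc' : ∀ i : Fin (j + 1), c' i.castSucc ⤳ c' i.succ ∧ c' i.castSucc ≠ c' i.succ := fun i => by
    induction i using Fin.cases with
    | zero =>
      simp only [c', Fin.castSucc_zero, Fin.cases_zero, Fin.cases_succ]
      refine ⟨subtype_specializes_iff _ _ |>.2 (h.trans (hzc 0)), fun e => hne ?_⟩
      have e' : η = (c 0).1 := congrArg Subtype.val e
      exact (h.antisymm (e' ▸ hzc 0)).eq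
    | succ i =>
      simp only [c', ← Fin.succ_castSucc, Fin.cases_succ]
      exact ⟨(subtype_specializes_iff _ _).2 ((subtype_specializes_iff (c i.castSucc) (c i.succ)).1 (hc i).1),
        fun e => (hc i).2 (Subtype.ext (congrArg Subtype.val e :))⟩
  have := Unibranch.natCast_le_topologicalKrullDim c' hc'
  rw [hη] at this
  exact absurd this (by exact_mod_cast Nat.not_succ_le_self j)

end Groth.Agent.TorFib
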